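import Cfsg.Agent.H94.J3.J3Main

/-!
Elements of `J₃` of orders 19 and 17 together with elements inducing automorphisms of orders 9 and 8 on
the cyclic groups they generate.
-/

set_option autoImplicit false
set_option maxRecDepth 100000

namespace H1.J3Syl

open Cfsg.Spor H94.J3

/-- Iterated product of a code. -/
def cpow (x : ℕ) : ℕ → ℕ
  | 0 => eye
  | n + 1 => H94.J3.mul x (cpow x n)

/-- A code of the form `U i * (V a * K m)`. -/
def word (i a m : ℕ) : ℕ := H94.J3.mul (U i) (H94.J3.mul (V a) (K m))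

def x19 : ℕ := cpow (word 17 114 68) 3
def g19 : ℕ := word 187 21 40
def x17 : ℕ := cpow (word 4529 59 88) 3
def g17 : ℕ := word 1 7 73

theorem checks :
    (cpow x19 19 = eye ∧ x19 ≠ eye ∧ x19 < 2 ^ 162 ∧ eye < 2 ^ 162 ∧
      H94.J3.mul g19 x19 = H94.J3.mul (cpow x19 4) g19) ∧
    (cpow x17 17 = eye ∧ x17 ≠ eye ∧ x17 < 2 ^ 162 ∧
      H94.J3.mul g17 x17 = H94.J3.mul (cpow x17 2) g17) := by
  decide +kernel

variable {F : Type*} [Field F] [Fintype F] [CharP F 2] {ω : F} (hω : ω ^ 2 + ω + 1 = 0) (C : Chain ω)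
include hω

theorem rep_cpow {g : GL F9 F} {x : ℕ} (hg : Rep ω g x) : ∀ n : ℕ, Rep ω (g ^ n) (cpow x n)
  | 0 => by rw [pow_zero]; exact rep_one ω
  | n + 1 => by rw [pow_succ']; exact hg.mul hω (rep_cpow hg n)

theorem mem_word {i a m : ℕ} (hi : i < 6156) (ha : a < 136) (hm : m < 180) :
    ∃ g : C.G, Rep ω (g : GL F9 F) (word i a m) :=
  ⟨⟨C.u ⟨i, hi⟩ * (C.v ⟨a, ha⟩ * C.kk ⟨m, hm⟩),
    C.G.mul_mem (C.u_mem _) (C.H_le (C.H.mul_mem (C.v_mem _) (C.K_le (C.kk_mem _))))⟩,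
    (C.rep_u _).mul hω ((C.rep_v _).mul hω (C.rep_kk _))⟩

theorem exists_pair (hF : Fintype.card F = 4) {p j cx cg : ℕ} (hp : p.Prime) (hp3 : p ≠ 3)
    (hx : ∃ x : C.G, Rep ω (x : GL F9 F) cx) (hg : ∃ g : C.G, Rep ω (g : GL F9 F) cg)
    (h1 : cpow cx p = eye) (h2 : cx ≠ eye) (h3 : cx < 2 ^ 162) (h4 : eye < 2 ^ 162)
    (h5 : H94.J3.mul cg cx = H94.J3.mul (cpow cx j) cg) :
    ∃ x g : C.G ⧸ Subgroup.center C.G, orderOf x = p ∧ g * x * g⁻¹ = x ^ j := by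
  obtain ⟨x, hx⟩ := hx
  obtain ⟨g, hg⟩ := hg
  haveI := Fact.mk hp
  have hxp : x ^ p = 1 := by
    refine Subtype.ext (Rep.eq ω (x := eye) ?_ (rep_one ω))
    rw [SubgroupClass.coe_pow, ← h1]
    exact rep_cpow hω hx p
  have hrel : g * x = x ^ j * g := by
    refine Subtype.ext (Rep.eq ω (x := H94.J3.mul cg cx) (hg.mul hω hx) ?_)
    rw [h5, Subgroup.coe_mul, SubgroupClass.coe_pow]
    exact (rep_cpow hω hx j).mul hω hg
  have hne : x ≠ 1 := by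
    intro h
    refine h2 (tm_inj hω h3 h4 ?_)
    have hxm : ((x : GL F9 F) : Matrix F9 F9 F) = tm ω cx := hx
    rw [← hxm, h, tm_eye]
    rfl
  refine ⟨(x : C.G ⧸ Subgroup.center C.G), (g : C.G ⧸ Subgroup.center C.G), ?_, ?_⟩
  · refine orderOf_eq_prime (by rw [← QuotientGroup.mk_pow, hxp, QuotientGroup.mk_one]) ?_
    rw [Ne, QuotientGroup.eq_one_iff]
    intro hc
    have hd : orderOf (⟨x, hc⟩ : Subgroup.center C.G) ∣ 3 :=
      (orderOf_dvd_natCard _).trans (card_center hω C hF).dvd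
    rw [Subgroup.orderOf_mk, orderOf_eq_prime hxp hne] at hd
    exact hp3 ((Nat.prime_dvd_prime_iff_eq hp Nat.prime_three).mp hd)
  · rw [← QuotientGroup.mk_pow, ← QuotientGroup.mk_inv, ← QuotientGroup.mk_mul, ← QuotientGroup.mk_mul,
      hrel, mul_inv_cancel_right]

theorem exists_word_cube {i a m : ℕ} (hi : i < 6156) (ha : a < 136) (hm : m < 180) :
    ∃ g : C.G, Rep ω (g : GL F9 F) (cpow (word i a m) 3) := by
  obtain ⟨g, hg⟩ := mem_word hω C hi ha hm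
  refine ⟨g ^ 3, ?_⟩
  rw [SubgroupClass.coe_pow]
  exact rep_cpow hω hg 3

theorem quot_elements (hF : Fintype.card F = 4) :
    (∃ x g : C.G ⧸ Subgroup.center C.G, orderOf x = 19 ∧ g * x * g⁻¹ = x ^ 4) ∧
    (∃ x g : C.G ⧸ Subgroup.center C.G, orderOf x = 17 ∧ g * x * g⁻¹ = x ^ 2) := by
  obtain ⟨⟨a1, a2, a3, a4, a5⟩, b1, b2, b3, b5⟩ := checks
  exact ⟨exists_pair hω C hF (by norm_num) (by norm_num)
      (exists_word_cube hω C (by norm_num) (by norm_num) (by norm_num))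
      (mem_word hω C (by norm_num) (by norm_num) (by norm_num)) a1 a2 a3 a4 a5,
    exists_pair hω C hF (by norm_num) (by norm_num)
      (exists_word_cube hω C (by norm_num) (by norm_num) (by norm_num))
      (mem_word hω C (by norm_num) (by norm_num) (by norm_num)) b1 b2 b3 a4 b5⟩

omit hω in
/-- A group isomorphic to `J₃` has order 50232960 and the required elements. -/
theorem of_isoJ3 {G : Type*} [Group G] (hG : IsoJ3 G) :
    Nat.card G = 50232960 ∧ (∃ x g : G, orderOf x = 19 ∧ g * x * g⁻¹ = x ^ 4) ∧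
      (∃ x g : G, orderOf x = 17 ∧ g * x * g⁻¹ = x ^ 2) := by
  obtain ⟨K, _, _, w, hK, hw, ⟨e⟩⟩ := hG
  have := charP_two hK
  obtain ⟨D⟩ := nonempty_chain (F := K) hw
  have key : ∀ T : Subgroup (GL F9 K), T = D.G →
      Nat.card (↥T ⧸ Subgroup.center ↥T) = 50232960 ∧
      (∃ x g : ↥T ⧸ Subgroup.center ↥T, orderOf x = 19 ∧ g * x * g⁻¹ = x ^ 4) ∧
      (∃ x g : ↥T ⧸ Subgroup.center ↥T, orderOf x = 17 ∧ g * x * g⁻¹ = x ^ 2) := by
    rintro T rfl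
    exact ⟨(isJ3_quot hw D hK).2, quot_elements hw D hK⟩
  obtain ⟨hc, ⟨x, g, hx, hg⟩, ⟨y, h, hy, hh⟩⟩ :=
    key (threeJ3 K w) (G_eq_threeJ3 hw D).symm
  refine ⟨(Nat.card_congr e.toEquiv).trans hc, ⟨e.symm x, e.symm g, ?_, ?_⟩,
    ⟨e.symm y, e.symm h, ?_, ?_⟩⟩
  · rw [e.symm.orderOf_eq, hx]
  · rw [← map_inv, ← map_mul, ← map_mul, hg, map_pow]
  · rw [e.symm.orderOf_eq, hy]
  · rw [← map_inv, ← map_mul, ← map_mul, hh, map_pow]

end H1.J3Syl
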