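import Mathlib

/-!
Normalisers of the Sylow 17- and 19-subgroups in a group of order 50232960 with involution centralisers
of order 1920, no elements of order 16, and elements inducing automorphisms of orders 9 and 8.
-/

set_option autoImplicit false

namespace H1.J3Syl

open Subgroup

variable {G : Type*} [Group G]

/-- The possible arithmetic at the prime 19. -/
theorem arith19 : ∀ m ∈ Nat.divisors 20655, ∀ k ∈ [9, 18], m * k ∣ 2643840 →
    2643840 / (m * k) % 19 = 1 → k = 9 ∧ (m = 1 ∨ m = 153) := by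
  decide +kernel

/-- The possible arithmetic at the prime 17. -/
theorem arith17 : ∀ m ∈ Nat.divisors 23085, ∀ k ∈ [8, 16], m * k ∣ 2954880 →
    2954880 / (m * k) % 17 = 1 → (k = 8 ∧ (m = 1 ∨ m = 171)) ∨ k = 16 := by
  decide +kernel

theorem card_sylow_eq_prime [Finite G] {p : ℕ} [hp : Fact p.Prime] (h1 : p ∣ Nat.card G)
    (h2 : ¬ p ^ 2 ∣ Nat.card G) (X : Sylow p G) : Nat.card (X : Subgroup G) = p := by
  obtain ⟨n, hn⟩ := IsPGroup.iff_card.mp X.isPGroup'
  have hd : p ∣ Nat.card (X : Subgroup G) := X.dvd_card_of_dvd_card h1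
  rw [hn] at hd ⊢
  rcases n with _ | _ | n
  · simp [hp.out.ne_one] at hd
  · simp
  · refine absurd ((pow_dvd_pow p (Nat.le_add_left 2 n)).trans ?_) h2
    rw [← hn]
    exact Subgroup.card_subgroup_dvd_card _

theorem isMulCommutative_of_card {p : ℕ} [Fact p.Prime] {X : Subgroup G} (hX : Nat.card X = p) :
    X ≤ centralizer (X : Set G) := by
  haveI : IsCyclic X := isCyclic_of_prime_card hX
  intro a ha
  rw [mem_centralizer_iff]
  intro b hb
  obtain ⟨z, hz⟩ := IsCyclic.exists_generator (α := X)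
  obtain ⟨i, hi⟩ := hz ⟨a, ha⟩
  obtain ⟨l, hl⟩ := hz ⟨b, hb⟩
  have hi' : ((z : G)) ^ i = a := by simpa using congrArg Subtype.val hi
  have hl' : ((z : G)) ^ l = b := by simpa using congrArg Subtype.val hl
  rw [← hi', ← hl', ← zpow_add, ← zpow_add, add_comm]

theorem eq_zpowers_of_mem {p : ℕ} [Fact p.Prime] {X : Subgroup G} (hX : Nat.card X = p) {x : G}
    (hx : x ∈ X) (ho : orderOf x = p) : X = zpowers x := by
  haveI : Finite X := Nat.finite_of_card_ne_zero (by rw [hX]; exact (Fact.out : p.Prime).ne_zero)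
  refine (Subgroup.eq_of_le_of_card_ge (zpowers_le.mpr hx) ?_).symm
  rw [hX, Nat.card_zpowers, ho]

theorem orderOf_conjugate (c x : G) : orderOf (c * x * c⁻¹) = orderOf x := by
  simpa using (MulAut.conj c).orderOf_eq x

/-- A subgroup of prime order `p`, `p²` not dividing the order, is a Sylow subgroup. -/
theorem exists_sylow_of_order [Finite G] {p : ℕ} [Fact p.Prime] (h2 : ¬ p ^ 2 ∣ Nat.card G) {x : G}
    (ho : orderOf x = p) : ∃ X : Sylow p G, (X : Subgroup G) = zpowers x := by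
  obtain ⟨X, hX⟩ := (IsPGroup.of_card (n := 1) (by rw [Nat.card_zpowers, ho, pow_one]) :
    IsPGroup p (zpowers x)).exists_le_sylow
  have hc := card_sylow_eq_prime (ho ▸ orderOf_dvd_natCard x) h2 X
  exact ⟨X, eq_zpowers_of_mem hc (hX (mem_zpowers x)) ho⟩

/-- The element relation transported to every Sylow subgroup. -/
theorem exists_local [Finite G] {p j : ℕ} [Fact p.Prime] (h2 : ¬ p ^ 2 ∣ Nat.card G)
    (h : ∃ x g : G, orderOf x = p ∧ g * x * g⁻¹ = x ^ j) (X : Sylow p G) :
    ∃ x g : G, x ∈ (X : Subgroup G) ∧ orderOf x = p ∧ g ∈ normalizer ((X : Subgroup G) : Set G) ∧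
      g * x * g⁻¹ = x ^ j := by
  obtain ⟨x, g, hx, hg⟩ := h
  obtain ⟨X₀, hX₀⟩ := exists_sylow_of_order h2 hx
  obtain ⟨c, hc⟩ := MulAction.exists_smul_eq G X₀ X
  have hX : (X : Subgroup G) = zpowers (c * x * c⁻¹) := by
    have hmem : c * x * c⁻¹ ∈ (X : Subgroup G) := by
      rw [← hc, Sylow.coe_subgroup_smul]
      refine ⟨x, ?_, rfl⟩
      rw [hX₀]
      exact mem_zpowers x
    refine eq_zpowers_of_mem (card_sylow_eq_prime (hx ▸ orderOf_dvd_natCard x) h2 X) hmem ?_
    rw [orderOf_conjugate, hx]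
  refine ⟨c * x * c⁻¹, c * g * c⁻¹, by rw [hX]; exact mem_zpowers _,
    by rw [orderOf_conjugate, hx], ?_, ?_⟩
  swap
  · rw [conj_pow]
    calc c * g * c⁻¹ * (c * x * c⁻¹) * (c * g * c⁻¹)⁻¹ = c * (g * x * g⁻¹) * c⁻¹ := by group
      _ = c * x ^ j * c⁻¹ := by rw [hg]
  have hle : (X : Subgroup G).map (MulAut.conj (c * g * c⁻¹)).toMonoidHom ≤ X := by
    rw [hX, MonoidHom.map_zpowers, zpowers_le]
    refine ⟨(j : ℤ), ?_⟩
    simp only [zpow_natCast, conj_pow, MulEquiv.coe_toMonoidHom, MulAut.conj_apply]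
    calc c * x ^ j * c⁻¹ = c * (g * x * g⁻¹) * c⁻¹ := by rw [hg]
      _ = c * g * c⁻¹ * (c * x * c⁻¹) * (c * g * c⁻¹)⁻¹ := by group
  have heq := Subgroup.eq_of_le_of_card_ge hle
    (le_of_eq (Subgroup.card_map_of_injective (MulAut.conj (c * g * c⁻¹)).injective).symm)
  rw [mem_normalizer_iff]
  intro y
  constructor
  · intro hy
    exact hle ⟨y, hy, rfl⟩
  · intro hy
    rw [← heq] at hy
    obtain ⟨z, hz, hzy⟩ := hy
    have : z = y := (MulAut.conj (c * g * c⁻¹)).injective hzy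
    exact this ▸ hz

theorem conj_pow_iter {g x : G} {j : ℕ} (h : g * x * g⁻¹ = x ^ j) :
    ∀ n : ℕ, g ^ n * x * (g ^ n)⁻¹ = x ^ (j ^ n)
  | 0 => by simp
  | n + 1 => by
    have ih := conj_pow_iter h n
    calc g ^ (n + 1) * x * (g ^ (n + 1))⁻¹ = g * (g ^ n * x * (g ^ n)⁻¹) * g⁻¹ := by
          rw [pow_succ']; group
      _ = (g * x * g⁻¹) ^ (j ^ n) := by rw [ih, conj_pow]
      _ = x ^ (j ^ (n + 1)) := by rw [h, ← pow_mul, pow_succ']

/-- The data of the normaliser of a Sylow subgroup of prime order. -/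
theorem sylow_data [Finite G] {p j q e : ℕ} [hp : Fact p.Prime] [hq : Fact q.Prime]
    (h2 : ¬ p ^ 2 ∣ Nat.card G) (h : ∃ x g : G, orderOf x = p ∧ g * x * g⁻¹ = x ^ j)
    (hj1 : j ^ (q ^ (e + 1)) % p = 1) (hj2 : j ^ (q ^ e) % p ≠ 1) (hinv : ∀ u : G, orderOf u = 2 →
      ¬ p ∣ Nat.card (centralizer ({u} : Set G)))
    (X : Sylow p G) :
    Nat.card (X : Subgroup G) = p ∧ ∃ n m k : ℕ,
      k = Nat.card (normalizerMonoidHom (X : Subgroup G)).range ∧
      Nat.card (centralizer ((X : Subgroup G) : Set G)) = p * m ∧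
      Nat.card (normalizer ((X : Subgroup G) : Set G)) = p * m * k ∧
      Nat.card G = p * (n * (m * k)) ∧ n % p = 1 ∧ k ∣ p - 1 ∧ q ^ (e + 1) ∣ k ∧ ¬ p ∣ m ∧
      ¬ 2 ∣ m := by
  obtain ⟨x, g, hx, ho, hgN, hg⟩ := exists_local h2 h X
  set P : Subgroup G := (X : Subgroup G) with hP
  have hpd : p ∣ Nat.card G := ho ▸ orderOf_dvd_natCard x
  have hXp : Nat.card P = p := card_sylow_eq_prime hpd h2 X
  refine ⟨hXp, ?_⟩
  haveI : IsCyclic P := isCyclic_of_prime_card hXp
  set φ := normalizerMonoidHom P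
  obtain ⟨m, hm⟩ : p ∣ Nat.card (centralizer (P : Set G)) := by
    rw [← hXp]
    exact Subgroup.card_dvd_of_le (isMulCommutative_of_card hXp)
  set k := Nat.card φ.range with hk
  have hN : Nat.card (normalizer (P : Set G)) = p * m * k := by
    rw [← Subgroup.card_mul_index φ.ker, Subgroup.index_ker, ← hk, normalizerMonoidHom_ker, ← hm,
      Nat.card_congr (Subgroup.subgroupOfEquivOfLe (centralizer_le_normalizer _)).toEquiv]
  have hn : Nat.card (Sylow p G) % p = 1 := by
    have := card_sylow_modEq_one p G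
    rw [Nat.ModEq, Nat.one_mod_eq_one.mpr hp.out.ne_one] at this
    exact this
  have hG : Nat.card G = p * (Nat.card (Sylow p G) * (m * k)) := by
    have h6 : Nat.card (Sylow p G) = (normalizer (P : Set G)).index := Sylow.card_eq_index_normalizer X
    rw [← Subgroup.card_mul_index (normalizer (P : Set G)), hN, h6]
    ring
  have hpm : ¬ p ∣ m := by
    intro hd
    refine h2 ?_
    rw [hG, pow_two]
    exact Nat.mul_dvd_mul_left p (dvd_mul_of_dvd_right (dvd_mul_of_dvd_left hd k) _)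
  have hkp : k ∣ p - 1 := by
    have h1 : k ∣ Nat.card (MulAut P) := Subgroup.card_subgroup_dvd_card _
    rwa [IsCyclic.card_mulAut, hXp, Nat.totient_prime hp.out] at h1
  have hpow : ∀ n : ℕ, (φ ⟨g, hgN⟩) ^ n = 1 ↔ j ^ n % p = 1 := by
    intro n
    rw [← map_pow]
    have h1 : φ (⟨g, hgN⟩ ^ n) = 1 ↔ g ^ n * x * (g ^ n)⁻¹ = x := by
      rw [← MonoidHom.mem_ker, normalizerMonoidHom_ker, mem_subgroupOf, SubgroupClass.coe_pow,
        mem_centralizer_iff]
      constructor
      · intro hc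
        rw [← hc x hx, mul_inv_cancel_right]
      · intro hc y hy
        have hy' : y ∈ zpowers x := by rw [← eq_zpowers_of_mem hXp hx ho]; exact hy
        obtain ⟨i, rfl⟩ := hy'
        exact (Commute.zpow_right (show Commute (g ^ n) x from mul_inv_eq_iff_eq_mul.mp hc) i).eq.symm
    rw [h1, conj_pow_iter hg n]
    nth_rw 2 [← pow_one x]
    rw [pow_eq_pow_iff_modEq, ho, Nat.ModEq, Nat.one_mod_eq_one.mpr hp.out.ne_one]
  have hqk : q ^ (e + 1) ∣ k := by
    have h1 : orderOf (φ ⟨g, hgN⟩) = q ^ (e + 1) :=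
      orderOf_eq_prime_pow (fun hh => hj2 ((hpow _).mp hh)) ((hpow _).mpr hj1)
    have h3 : orderOf (⟨φ ⟨g, hgN⟩, ⟨g, hgN⟩, rfl⟩ : φ.range) ∣ k := orderOf_dvd_natCard _
    rwa [← orderOf_coe, h1] at h3
  have hm2 : ¬ 2 ∣ m := by
    intro hd
    haveI := Fact.mk Nat.prime_two
    obtain ⟨u, hu⟩ := exists_prime_orderOf_dvd_card' (G := centralizer (P : Set G)) 2
      (hm ▸ dvd_mul_of_dvd_right hd p)
    refine hinv (u : G) (by rw [orderOf_coe, hu]) ?_
    have hxu : x ∈ centralizer ({(u : G)} : Set G) := by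
      rw [mem_centralizer_singleton_iff]
      exact (mem_centralizer_iff.mp u.2) x hx
    rw [← ho, ← Subgroup.orderOf_mk x hxu]
    exact orderOf_dvd_natCard _
  exact ⟨_, m, k, rfl, hm, hN, hG, hn, hkp, hqk, hpm, hm2⟩

theorem dvd_odd_part {m a b : ℕ} (hm : m ∣ 2 ^ a * b) (h2 : ¬ 2 ∣ m) : m ∣ b :=
  ((Nat.prime_two.coprime_iff_not_dvd.mpr h2).pow_left a).symm.dvd_of_dvd_mul_left hm

/-- The hypotheses of this file. -/
structure Hyp (G : Type*) [Group G] : Prop where
  card : Nat.card G = 50232960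
  cent : ∀ u : G, orderOf u = 2 → Nat.card (centralizer ({u} : Set G)) = 1920
  no16 : ∀ g : G, orderOf g ≠ 16
  el19 : ∃ x g : G, orderOf x = 19 ∧ g * x * g⁻¹ = x ^ 4
  el17 : ∃ x g : G, orderOf x = 17 ∧ g * x * g⁻¹ = x ^ 2

namespace Hyp

variable [Finite G] (H : Hyp G)
include H

theorem nineteen (X : Sylow 19 G) :
    Nat.card (X : Subgroup G) = 19 ∧
      Nat.card (normalizerMonoidHom (X : Subgroup G)).range = 9 ∧
      ∃ m, (m = 1 ∨ m = 153) ∧ Nat.card (centralizer ((X : Subgroup G) : Set G)) = 19 * m ∧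
        Nat.card (normalizer ((X : Subgroup G) : Set G)) = 19 * m * 9 := by
  haveI : Fact (Nat.Prime 19) := ⟨by norm_num⟩
  haveI : Fact (Nat.Prime 3) := ⟨Nat.prime_three⟩
  obtain ⟨hX, n, m, k, hk, hC, hN, hG, hn, hk1, hk2, -, hm2⟩ :=
    sylow_data (p := 19) (q := 3) (e := 1) (by rw [H.card]; norm_num) H.el19 (by norm_num)
      (by norm_num) (fun u hu => by rw [H.cent u hu]; norm_num) X
  have h1 : n * (m * k) = 2643840 := by
    have h2 := H.card ▸ hG
    omega
  have hd : m * k ∣ 2643840 := Dvd.intro_left n h1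
  have hm : m ∈ Nat.divisors 20655 :=
    Nat.mem_divisors.mpr ⟨dvd_odd_part (a := 7) (dvd_trans (Dvd.intro k rfl) hd) hm2, by norm_num⟩
  have hk' : k ∈ [9, 18] := by
    have hk3 : k ≤ 18 := Nat.le_of_dvd (by norm_num) hk1
    have hk0 : k ≠ 0 := by
      intro h
      rw [h] at hk1
      norm_num at hk1
    obtain ⟨c, hc⟩ := hk2
    simp only [List.mem_cons, List.not_mem_nil, or_false]
    norm_num at hc
    omega
  have hmk : 0 < m * k := by
    rcases Nat.eq_zero_or_pos (m * k) with h0 | h0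
    · rw [h0, mul_zero] at h1; simp at h1
    · exact h0
  have hdiv : 2643840 / (m * k) % 19 = 1 := by
    rw [← h1, Nat.mul_div_cancel _ hmk, hn]
  obtain ⟨rfl, hm'⟩ := arith19 m hm k hk' hd hdiv
  exact ⟨hX, hk.symm, m, hm', hC, hN⟩

theorem seventeen (X : Sylow 17 G) :
    Nat.card (X : Subgroup G) = 17 ∧
      Nat.card (normalizerMonoidHom (X : Subgroup G)).range = 8 ∧
      ∃ m, (m = 1 ∨ m = 171) ∧ Nat.card (centralizer ((X : Subgroup G) : Set G)) = 17 * m := by
  haveI : Fact (Nat.Prime 17) := ⟨by norm_num⟩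
  haveI : Fact (Nat.Prime 2) := ⟨Nat.prime_two⟩
  obtain ⟨hX, n, m, k, hk, hC, hN, hG, hn, hk1, hk2, -, hm2⟩ :=
    sylow_data (p := 17) (q := 2) (e := 2) (by rw [H.card]; norm_num) H.el17 (by norm_num)
      (by norm_num) (fun u hu => by rw [H.cent u hu]; norm_num) X
  have h1 : n * (m * k) = 2954880 := by
    have h2 := H.card ▸ hG
    omega
  have hd : m * k ∣ 2954880 := Dvd.intro_left n h1
  have hm : m ∈ Nat.divisors 23085 :=
    Nat.mem_divisors.mpr ⟨dvd_odd_part (a := 7) (dvd_trans (Dvd.intro k rfl) hd) hm2, by norm_num⟩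
  have hk' : k ∈ [8, 16] := by
    have hk3 : k ≤ 16 := Nat.le_of_dvd (by norm_num) hk1
    have hk0 : k ≠ 0 := by
      intro h
      rw [h] at hk1
      norm_num at hk1
    obtain ⟨c, hc⟩ := hk2
    simp only [List.mem_cons, List.not_mem_nil, or_false]
    norm_num at hc
    omega
  have hmk : 0 < m * k := by
    rcases Nat.eq_zero_or_pos (m * k) with h0 | h0
    · rw [h0, mul_zero] at h1; simp at h1
    · exact h0
  have hdiv : 2954880 / (m * k) % 17 = 1 := by
    rw [← h1, Nat.mul_div_cancel _ hmk, hn]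
  rcases arith17 m hm k hk' hd hdiv with ⟨rfl, hm'⟩ | rfl
  · exact ⟨hX, hk.symm, m, hm', hC⟩
  exfalso
  haveI : IsCyclic (X : Subgroup G) := isCyclic_of_prime_card hX
  have hcA : Nat.card (MulAut (X : Subgroup G)) = 16 := by
    rw [IsCyclic.card_mulAut, hX, Nat.totient_prime (by norm_num)]
  haveI : IsCyclic (MulAut (X : Subgroup G)) := by
    haveI : IsCyclic (ZMod 17)ˣ := inferInstance
    exact isCyclic_of_surjective ((IsCyclic.mulAutMulEquiv (X : Subgroup G)).trans
      (Units.mapEquiv (ZMod.ringEquivCongr hX).toMulEquiv)).symm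
      (MulEquiv.surjective _)
  obtain ⟨z, hz⟩ := IsCyclic.exists_ofOrder_eq_natCard (α := (normalizerMonoidHom (X : Subgroup G)).range)
  rw [← hk] at hz
  obtain ⟨w, hw⟩ := z.2
  have h16 : 16 ∣ orderOf (w : G) := by
    rw [← hz, ← Subgroup.orderOf_coe, ← hw, orderOf_coe]
    exact orderOf_map_dvd _ _
  exact H.no16 _ (orderOf_pow_orderOf_div (orderOf_pos (w : G)).ne' h16)

theorem nineteen_cent (X : Sylow 19 G) :
    Nat.card (centralizer ((X : Subgroup G) : Set G)) = 19 := by
  haveI : Fact (Nat.Prime 19) := ⟨by norm_num⟩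
  haveI : Fact (Nat.Prime 17) := ⟨by norm_num⟩
  obtain ⟨hX, hk, m, hm, hC, hN⟩ := H.nineteen X
  rcases hm with rfl | rfl
  · simpa using hC
  exfalso
  set C := centralizer ((X : Subgroup G) : Set G)
  set N := normalizer ((X : Subgroup G) : Set G)
  obtain ⟨P, -⟩ : ∃ P : Sylow 17 C, True := ⟨default, trivial⟩
  have hP : Nat.card (P : Subgroup C) = 17 :=
    card_sylow_eq_prime (by rw [hC]; norm_num) (by rw [hC]; norm_num) P
  have hPn : Nat.card (Sylow 17 C) = 1 := by
    have h1 : Nat.card (Sylow 17 C) ∣ 2907 := by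
      rw [Sylow.card_eq_index_normalizer P]
      have := Subgroup.index_dvd_card (normalizer ((P : Subgroup C) : Set C))
      rw [hC] at this
      exact this
    have h2 : Nat.card (Sylow 17 C) % 17 = 1 := card_sylow_modEq_one 17 C
    obtain ⟨x, hx⟩ := exists_prime_orderOf_dvd_card' (G := (X : Subgroup G)) 19 (dvd_of_eq hX.symm)
    have hxC : (x : G) ∈ C := isMulCommutative_of_card hX x.2
    have hxN : (⟨x, hxC⟩ : C) ∈ normalizer ((P : Subgroup C) : Set C) := by
      refine centralizer_le_normalizer _ ?_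
      rw [mem_centralizer_iff]
      intro c _
      exact Subtype.ext ((mem_centralizer_iff.mp c.2 x x.2).symm)
    have h19 : 19 ∣ Nat.card (normalizer ((P : Subgroup C) : Set C)) := by
      have := orderOf_dvd_natCard (⟨_, hxN⟩ : normalizer ((P : Subgroup C) : Set C))
      rwa [Subgroup.orderOf_mk, Subgroup.orderOf_mk, orderOf_coe, hx] at this
    have h17 : 17 ∣ Nat.card (normalizer ((P : Subgroup C) : Set C)) := by
      have := Subgroup.card_dvd_of_le (le_normalizer (H := (P : Subgroup C)))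
      rwa [hP] at this
    have h9 : Nat.card (Sylow 17 C) ∣ 9 := by
      have h323 : 323 ∣ Nat.card (normalizer ((P : Subgroup C) : Set C)) :=
        Nat.Coprime.mul_dvd_of_dvd_of_dvd (m := 19) (n := 17) (by norm_num) h19 h17
      obtain ⟨c, hc⟩ := h323
      have h3 := Subgroup.card_mul_index (normalizer ((P : Subgroup C) : Set C))
      have h6 : Nat.card (Sylow 17 C) = (normalizer ((P : Subgroup C) : Set C)).index :=
        Sylow.card_eq_index_normalizer P
      rw [hC, hc, ← h6, mul_assoc] at h3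
      exact Dvd.intro_left c (by omega)
    have h9' : Nat.card (Sylow 17 C) ∈ Nat.divisors 9 := Nat.mem_divisors.mpr ⟨h9, by norm_num⟩
    rw [show Nat.divisors 9 = {1, 3, 9} by decide] at h9'
    simp only [Finset.mem_insert, Finset.mem_singleton] at h9'
    omega
  obtain ⟨y, hy⟩ := exists_prime_orderOf_dvd_card' (G := (P : Subgroup C)) 17 (dvd_of_eq hP.symm)
  have hyo : orderOf ((y : C) : G) = 17 := by rw [orderOf_coe, orderOf_coe, hy]
  obtain ⟨Y, hY⟩ := exists_sylow_of_order (p := 17) (by rw [H.card]; norm_num) hyo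
  have huniq : ∀ c : C, orderOf c = 17 → (c : G) ∈ (Y : Subgroup G) := by
    intro c hc
    haveI : Subsingleton (Sylow 17 C) := (Nat.card_eq_one_iff_unique.mp hPn).1
    obtain ⟨Q, hQ⟩ := (IsPGroup.of_card (n := 1) (by rw [Nat.card_zpowers, hc, pow_one]) :
      IsPGroup 17 (zpowers c)).exists_le_sylow
    rw [Subsingleton.elim Q P] at hQ
    have hc' : c ∈ zpowers (y : C) := by
      rw [← eq_zpowers_of_mem hP y.2 (by rw [orderOf_coe, hy])]
      exact hQ (mem_zpowers c)
    obtain ⟨i, rfl⟩ := hc'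
    rw [hY]
    exact ⟨i, by simp⟩
  have hNY : N ≤ normalizer ((Y : Subgroup G) : Set G) := by
    intro n hn
    have hmap : ∀ g ∈ N, g * ((y : C) : G) * g⁻¹ ∈ (Y : Subgroup G) := by
      intro g hg
      have hgC : g * ((y : C) : G) * g⁻¹ ∈ C := by
        rw [mem_centralizer_iff]
        intro x hx
        have hx' : g⁻¹ * x * g ∈ (X : Subgroup G) := (mem_normalizer_iff''.mp hg x).mp hx
        have := mem_centralizer_iff.mp (y : C).2 _ hx'
        calc x * (g * ((y : C) : G) * g⁻¹) = g * (g⁻¹ * x * g * ((y : C) : G)) * g⁻¹ := by group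
          _ = g * (((y : C) : G) * (g⁻¹ * x * g)) * g⁻¹ := by rw [this]
          _ = g * ((y : C) : G) * g⁻¹ * x := by group
      refine huniq ⟨_, hgC⟩ ?_
      rw [Subgroup.orderOf_mk, orderOf_conjugate, hyo]
    have hall : ∀ g ∈ N, ∀ z ∈ (Y : Subgroup G), g * z * g⁻¹ ∈ (Y : Subgroup G) := by
      intro g hg z hz
      rw [hY] at hz
      obtain ⟨i, rfl⟩ := hz
      rw [← conj_zpow]
      exact zpow_mem (hmap g hg) i
    rw [mem_normalizer_iff]
    intro z
    refine ⟨hall n hn z, fun hz => ?_⟩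
    have := hall n⁻¹ (inv_mem hn) _ hz
    simpa [mul_assoc] using this
  obtain ⟨hYc, hkY, m', hm', hCY⟩ := H.seventeen Y
  set ψ := (normalizerMonoidHom (Y : Subgroup G)).comp (Subgroup.inclusion hNY)
  have hψ : Nat.card ψ.range = 1 := by
    refine Nat.eq_one_of_dvd_coprimes (a := 19 * 153 * 9) (b := 8) (by norm_num) ?_ ?_
    · rw [← hN]
      exact Subgroup.card_range_dvd ψ
    · rw [← hkY]
      exact Subgroup.card_dvd_of_le (by rintro _ ⟨z, rfl⟩; exact ⟨_, rfl⟩)
  have hNC : N ≤ centralizer ((Y : Subgroup G) : Set G) := by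
    intro n hn
    have h1 : ψ ⟨n, hn⟩ = 1 := by
      have h2 : ψ.range = ⊥ := Subgroup.card_eq_one.mp hψ
      rw [← Subgroup.mem_bot, ← h2]
      exact ⟨_, rfl⟩
    have h3 : Subgroup.inclusion hNY ⟨n, hn⟩ ∈ (normalizerMonoidHom (Y : Subgroup G)).ker := h1
    rw [normalizerMonoidHom_ker, mem_subgroupOf] at h3
    exact h3
  have h4 := Subgroup.card_dvd_of_le hNC
  rw [hN, hCY] at h4
  rcases hm' with rfl | rfl <;> norm_num at h4

theorem seventeen_cent (Y : Sylow 17 G) :
    Nat.card (centralizer ((Y : Subgroup G) : Set G)) = 17 := by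
  haveI : Fact (Nat.Prime 19) := ⟨by norm_num⟩
  haveI : Fact (Nat.Prime 17) := ⟨by norm_num⟩
  obtain ⟨hY, hk, m, hm, hC⟩ := H.seventeen Y
  rcases hm with rfl | rfl
  · simpa using hC
  exfalso
  obtain ⟨x, hx⟩ := exists_prime_orderOf_dvd_card' (G := centralizer ((Y : Subgroup G) : Set G)) 19
    (by rw [hC]; norm_num)
  obtain ⟨X, hX⟩ := exists_sylow_of_order (p := 19) (x := (x : G)) (by rw [H.card]; norm_num)
    (by rw [orderOf_coe, hx])
  have hle : (Y : Subgroup G) ≤ centralizer ((X : Subgroup G) : Set G) := by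
    intro y hy
    rw [mem_centralizer_iff, hX]
    rintro _ ⟨i, rfl⟩
    exact (Commute.zpow_left (show Commute (x : G) y from (mem_centralizer_iff.mp x.2 y hy).symm) i).eq
  have h1 := Subgroup.card_dvd_of_le hle
  rw [hY, H.nineteen_cent X] at h1
  norm_num at h1

omit H in
theorem quotient_shape {p k : ℕ} [Fact p.Prime] (X : Subgroup G) (hX : Nat.card X = p)
    (hC : Nat.card (centralizer (X : Set G)) = p)
    (hk : Nat.card (normalizerMonoidHom X).range = k) :
    centralizer (X : Set G) = X ∧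
      ∃ h : (X.subgroupOf (normalizer (X : Set G))).Normal,
        IsCyclic (↥(normalizer (X : Set G)) ⧸ X.subgroupOf _) ∧
        Nat.card (↥(normalizer (X : Set G)) ⧸ X.subgroupOf _) = k := by
  haveI : IsCyclic X := isCyclic_of_prime_card hX
  have hCX : centralizer (X : Set G) = X :=
    (Subgroup.eq_of_le_of_card_ge (isMulCommutative_of_card hX) (by rw [hC, hX])).symm
  refine ⟨hCX, Subgroup.normal_in_normalizer, ?_⟩
  haveI : (X.subgroupOf (normalizer (X : Set G))).Normal := Subgroup.normal_in_normalizer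
  have hker : (normalizerMonoidHom X).ker = X.subgroupOf (normalizer (X : Set G)) := by
    rw [normalizerMonoidHom_ker, hCX]
  have e := (QuotientGroup.quotientMulEquivOfEq hker.symm).trans
    (QuotientGroup.quotientKerEquivRange (normalizerMonoidHom X))
  haveI : IsCyclic (MulAut X) := by
    haveI : IsCyclic (ZMod p)ˣ := inferInstance
    exact isCyclic_of_surjective ((IsCyclic.mulAutMulEquiv X).trans
      (Units.mapEquiv (ZMod.ringEquivCongr hX).toMulEquiv)).symm (MulEquiv.surjective _)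
  exact ⟨isCyclic_of_surjective e.symm e.symm.surjective, (Nat.card_congr e.toEquiv).trans hk⟩

theorem conclusion :
    (∀ X : Sylow 19 G, centralizer ((X : Subgroup G) : Set G) = X ∧
        ∃ h : ((X : Subgroup G).subgroupOf (normalizer ((X : Subgroup G) : Set G))).Normal,
          IsCyclic (↥(normalizer ((X : Subgroup G) : Set G)) ⧸ (X : Subgroup G).subgroupOf _) ∧
          Nat.card (↥(normalizer ((X : Subgroup G) : Set G)) ⧸ (X : Subgroup G).subgroupOf _) = 9) ∧
    (∀ Y : Sylow 17 G, centralizer ((Y : Subgroup G) : Set G) = Y ∧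
        ∃ h : ((Y : Subgroup G).subgroupOf (normalizer ((Y : Subgroup G) : Set G))).Normal,
          IsCyclic (↥(normalizer ((Y : Subgroup G) : Set G)) ⧸ (Y : Subgroup G).subgroupOf _) ∧
          Nat.card (↥(normalizer ((Y : Subgroup G) : Set G)) ⧸ (Y : Subgroup G).subgroupOf _) = 8) := by
  haveI : Fact (Nat.Prime 19) := ⟨by norm_num⟩
  haveI : Fact (Nat.Prime 17) := ⟨by norm_num⟩
  exact ⟨fun X => quotient_shape _ (H.nineteen X).1 (H.nineteen_cent X) (H.nineteen X).2.1,
    fun Y => quotient_shape _ (H.seventeen Y).1 (H.seventeen_cent Y) (H.seventeen Y).2.1⟩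

end Hyp

end H1.J3Syl
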