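import Cfsg.Agent.S2135
import Cfsg.Agent.H1.J3Syl.Elements
import Cfsg.Agent.H1.J3Syl.Normalizers
import Cfsg.Agent.H76.Basic
import Cfsg.Prelude.Def_Transfer

/-!
The hypotheses of the normaliser computation hold in every group isomorphic to `J₃`.
-/

set_option autoImplicit false

namespace H1.J3Syl

open Subgroup

/-- An extension of an extraspecial `2`-group by `A₅` has no element of order 16. -/
theorem no16_of_ext {K : Type*} [Group K] [Finite K] (Q : Subgroup K) [Q.Normal]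
    (hQ : Cfsg.IsExtraspecial 2 Q) (e : K ⧸ Q ≃* alternatingGroup (Fin 5)) (g : K) :
    orderOf g ≠ 16 := by
  haveI : Fact (Nat.Prime 2) := ⟨Nat.prime_two⟩
  intro hg
  have h16 : g ^ 16 = 1 := hg ▸ pow_orderOf_eq_one g
  have key : ∀ a : alternatingGroup (Fin 5), a ^ 16 = 1 → a * a = 1 := by decide +kernel
  have h2 : g * g ∈ Q := by
    rw [← QuotientGroup.eq_one_iff]
    have h := key (e (g : K ⧸ Q)) (by
      rw [← map_pow, ← QuotientGroup.mk_pow, h16, QuotientGroup.mk_one, map_one])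
    rw [← map_mul, map_eq_one_iff _ e.injective] at h
    exact h
  have h4 : (⟨g * g, h2⟩ : Q) ^ 2 ∈ center Q := by
    rw [← hQ.1.2.1]
    exact H76.pow_mem_frattini hQ.1.1 _
  have h8 : ((⟨_, h4⟩ : center Q)) ^ 2 = 1 := by
    exact orderOf_dvd_iff_pow_eq_one.mp ((_root_.orderOf_dvd_natCard _).trans hQ.2.dvd)
  have h8' : g ^ 8 = 1 := by
    have := congrArg (fun c : center Q => ((c : Q) : K)) h8
    simp only [SubgroupClass.coe_pow, OneMemClass.coe_one] at this
    rw [← this, ← pow_two g, ← pow_mul, ← pow_mul]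
  have := orderOf_dvd_of_pow_eq_one h8'
  rw [hg] at this
  norm_num at this

/-- A group isomorphic to `J₃` satisfies `Hyp`. -/
theorem hyp_of_isoJ3 {G : Type*} [Group G] [Finite G] (hG : Cfsg.Spor.IsoJ3 G) : Hyp G := by
  haveI : Fact (Nat.Prime 2) := ⟨Nat.prime_two⟩
  obtain ⟨hcard, h19, h17⟩ := of_isoJ3 hG
  obtain ⟨K, _, _, w, hK, hw, ⟨f⟩⟩ := hG
  obtain ⟨hone, t, ht, Q, hQn, hQ, hQ32, -, -, ⟨e⟩⟩ := Cfsg.Agent.S2135.result hK w hw
  have hCt : Nat.card (centralizer ({t} : Set (Cfsg.Spor.J3 K w))) = 1920 := by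
    rw [card_eq_card_quotient_mul_card_subgroup Q, Nat.card_congr e.toEquiv, hQ32,
      nat_card_alternatingGroup, Nat.card_fin]
    norm_num
  have hmove : ∀ u : G, orderOf u = 2 →
      ∃ φ : G ≃* Cfsg.Spor.J3 K w, φ u = t := by
    intro u hu
    obtain ⟨c, hc⟩ := isConj_iff.mp (hone (f u) t (by rw [f.orderOf_eq, hu]) ht)
    exact ⟨f.trans (MulAut.conj c), by rw [MulEquiv.trans_apply, MulAut.conj_apply, hc]⟩
  have hcent : ∀ u : G, orderOf u = 2 → Nat.card (centralizer ({u} : Set G)) = 1920 := by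
    intro u hu
    obtain ⟨φ, hφ⟩ := hmove u hu
    rw [← hCt, ← hφ]
    refine Nat.card_congr (Equiv.subtypeEquiv φ.toEquiv fun x => ?_)
    rw [mem_centralizer_singleton_iff, mem_centralizer_singleton_iff]
    show x * u = u * x ↔ φ x * φ u = φ u * φ x
    rw [← map_mul, ← map_mul, φ.injective.eq_iff]
  refine ⟨hcard, hcent, fun g hg => ?_, h19, h17⟩
  have hu : orderOf (g ^ 8) = 2 := by
    rw [orderOf_pow, hg]
    norm_num
  obtain ⟨φ, hφ⟩ := hmove _ hu
  have hgC : φ g ∈ centralizer ({t} : Set (Cfsg.Spor.J3 K w)) := by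
    rw [mem_centralizer_singleton_iff, ← hφ, ← map_mul, ← map_mul, pow_mul_comm']
  exact no16_of_ext Q hQ e ⟨φ g, hgC⟩ (by rw [Subgroup.orderOf_mk, φ.orderOf_eq, hg])

end H1.J3Syl
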